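import Cfsg.Agent.Lib.Helper9.TC2Pack

set_option autoImplicit false
set_option maxRecDepth 100000

namespace Cfsg.Agent.Helper9.TCData.L37C1
open Cfsg.Agent.Helper9.TC2
noncomputable def entT_0 : BT := (BT.node 4 (BT.node 2 (BT.leaf 0xb3c6aec1aac4a6bca2c29eb7b2c798b194b097c093bfa9c587aa84a986bb83baa1c378a375a277b674b56eab90be8dbd66ad62ac5f1b5c1a58a481b97eb851a64ea54c1549146db272b470b33f9f3c9e398f378e3591329065af61ae2a092a99349d319c50a84da71e061e93269724963ea13ba01403148d11880e8727980a8508841b92108b0d8a128c020002820081) (BT.leaf 0xb341b447aa3cab45a237a343af46983e943d91318e30a74487398438822a7f299f4278347533732371226e249940953f661b621a672f632e6f32883b853a51154e1452284f27592b793676353f0f3c0e40213d20351732165ead5bac2b182809271125104ba648a51f121c06361d331c3a1f381e150c130311050e042999120b0f0a1d930b080907138d030101000182)) (BT.node 6 (BT.leaf 0xb142ad45acc6a543a4c4b0c79b3297349333903b8d3a8a2b8fbe8cbd81367e357b2480b97db896c092bf9ac16b1d691c651f611e5e285b2789bc561754165dad5aac4b2148207ab7441142104aa647a564af60ae6ab168b0300b2e0a2c0c291355aa53a92308210728981d0d43a341a2190517041c922b992f9b2d9a0c02229520940701188f168e04000b8906860383)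 (BT.node 8 (BT.leaf 0xb03fac3da83aa438a0359d339a30962fafc78f2dabc689298628a7c58026a3c47a2277219fc3721f9cc26c1c6a1b99c195c060198ebe5a185716551588bc85bb4d137fb947124510430f79b776b63b0d71b4370c340b6bb269b12d095fae59ac260856ab54aa20064ca746a51b0544a442a316033aa0369e339d0d022c9a259708011f941a910500158e0c8a07870484) (BT.leaf 0xb240ae3ea93ba639a1369e349c31b1c7922eadc68c2c8b2aa8c58327a5c47d257c23a0c374209dc2701e6d1d9bc1681a641991bf5d188bbd58178abc5314501382ba4a127cb846117bb7410e3e0d73b5390c6fb36cb2310a2f0967b063af5cad57ab2407220652a94fa849a645a41a04180340a23da1389f1002309c2e9b0a012396219506001990178f0f8b09880585))))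

noncomputable def cerT_0 : BT := (BT.node 4 (BT.node 2 (BT.leaf 0x24409102444810224889020449112040892204491020410222248810208109124408122240812224101124488904044912224101020401112008890008080) (BT.leaf 0x408102040810204081020408102040810204081020408102040810204081020408102040810232641020408c9904081020408102040800204001020008100)) (BT.node 6 (BT.leaf 0x4090824284102040810242a410204854a1528410204081024208129420812104094a152850a9040810242a410272090a90409cb1528412942094a10400000) (BT.node 8 (BT.leaf 0x40810204081020008002040010004080020008100000800204080000400102040000200081000008000040000200001000008000000800004000020000000) (BT.leaf 0x40810204081410504102820a0820504141040a082040010005041020008002820810004020820400000820810000020820400000040000200001000000000))))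

noncomputable def lkT_0 : BT := (BT.leaf 0x0)

noncomputable def lcT_0 : BT := (BT.leaf 0x0)

noncomputable def pnT_0 : BT := (BT.leaf 0x6fdbd6e9b86d5b36c1af8b9ad8b1a96a22769a25689a18819f8799c66e1a8659986198659958521364e126499063e0e8358d8318c62e0a82589224096220781986218066160480d8320c038098240a0160501801804008000000)

noncomputable def clsT_0 : BT := (BT.leaf 0x8f1a2c4870a0c07ef9ebc76e9cb86ed9ab466c98b05eb96ac56a94a84e992a446890a03e78e9c3668c982e58a9426488901e3868c16284880e182840608080)

noncomputable def repT_0 : BT := (BT.leaf 0x8f1a2c4870a0c07ef9ebc76e9cb86ed9ab466c98b05eb96ac56a94a84e992a446890a03e78e9c3668c982e58a9426488901e3868c16284880e182840608080)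

noncomputable def tauT_0 : BT := (BT.node 4 (BT.node 2 (BT.leaf 0x8d0623c84de3b16101fc554a5dba868d1366aadf3d5ab0d9a48e5c264a54a3268ccf9e1e388905eb84993a714270c4cb96428018d101cc05084858a1800101) (BT.leaf 0x831de456f0e33e7ac584472e152984d19a3449203f36697ae64edd1528a13ab6cd478e4280b965ab0c0922413252418e9c3e786030a10c8b144c4071a04002)) (BT.node 6 (BT.leaf 0x8516343891d93466edd2b7cf5b3548e5c407f04e9c3e79427785cb2d588503722413255eb98b0162861354a440730351a20a109193668115280478e0024303) (BT.node 8 (BT.leaf 0x7ef5d386acd82f8eb63295115344448619f8470dc18065f182c55e3b26e49101eddb0d68305b2622572c10ad5064e942a4460d01e3a08d1702508801c28384) (BT.leaf 0x80f9db96cd18c75d1962a8a9e225470d0423c7609a32fcc3d2ef0a137449c116e386b518cd90a12c17ad561c3295099204068909f0470d812c540101e2c405))))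


end Cfsg.Agent.Helper9.TCData.L37C1
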